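import Cfsg.Agent.TH.Spor.EngB_m3
import Cfsg.Agent.SM.Asm_m3
import Cfsg.Agent.Characters.Central
import Cfsg.Agent.Characters.Counting
import Cfsg.Agent.H418.Frob
import Cfsg.Agent.FastGrp
import Cfsg.Agent.Prune
set_option linter.all false
prune_inst 0x7f00000000000000000000000000000000000000000000000000000000000000000000000000000000000000000000000000000000000000000000000000000000000000000000000000000000000000003fffffffffffffffffffffffffffbeffbdfbfeffff
open scoped Cfsg.Agent.FastGrp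

-- part: SM/Sp/Tree
section
/-!
# SM (S3570), sporadic socles: branch and bound for the numbers of the elements of a subgroup (helper26)

A state bounds the fixed points of the types of prime order and the values of some rows.
-/

set_option autoImplicit false

namespace Cfsg.Agent.SM.Sp

open Cfsg Cfsg.Agent.TAB.Eng Cfsg.Agent.TAB.Use Cfsg.Agent.SB.SporL Cfsg.Agent.TH Cfsg.Agent.TH.Spor Finset

universe u

/-- type, modulus, lower and upper bound for the fixed points -/
abbrev Fe : Type := ℕ × ℕ × ℕ × ℕ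

/-- bounds for rows -/
abbrev Bs : Type := List (ℕ × ℕ)

/-- rows: a degree and the values -/
abbrev Ro : Type := ℕ × List ℤ

/-- certificates -/
inductive Tr : Type
  | far (lam : ℤ) (ce : List (ℤ × ℕ)) : Tr
  | emp : Tr
  | bf (q l : ℕ) (s t : Tr) : Tr
  | bm (i l : ℕ) (s t : Tr) : Tr

/-- look up a type -/
noncomputable def lkF {β : Type} (F : List Fe) (q : ℕ) (d : β) (κ : ℕ → ℕ → ℕ → β) : β :=
  List.rec d (fun e _ ih => cond (Nat.beq e.1 q) (κ e.2.1 e.2.2.1 e.2.2.2) ih) F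

theorem lkF_ind {β : Type} {P : β → Prop} {F : List Fe} {q : ℕ} {d : β} {κ : ℕ → ℕ → ℕ → β} (h0 : P d)
    (h : ∀ e ∈ F, e.1 = q → P (κ e.2.1 e.2.2.1 e.2.2.2)) : P (lkF F q d κ) := by
  induction F with
  | nil => exact h0
  | cons e F ih =>
    show P (cond (Nat.beq e.1 q) (κ e.2.1 e.2.2.1 e.2.2.2) (lkF F q d κ))
    cases h1 : Nat.beq e.1 q with
    | true => exact h e List.mem_cons_self (Nat.eq_of_beq_eq_true h1)
    | false => exact ih fun e' he' => h e' (List.mem_cons_of_mem _ he')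

/-- look up a row -/
noncomputable def lkB (L : Bs) (i : ℕ) (d : Bool) (κ : ℕ → Bool) : Bool :=
  List.rec d (fun e _ ih => cond (Nat.beq e.1 i) (κ e.2) ih) L

theorem lkB_spec {L : Bs} {i : ℕ} {d : Bool} {κ : ℕ → Bool} (h : lkB L i d κ = true) :
    d = true ∨ ∃ b, (i, b) ∈ L ∧ κ b = true := by
  induction L with
  | nil => exact Or.inl h
  | cons e L ih =>
    have h1 : cond (Nat.beq e.1 i) (κ e.2) (lkB L i d κ) = true := h
    cases h2 : Nat.beq e.1 i with
    | true =>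
      rw [h2] at h1
      exact Or.inr ⟨e.2, Nat.eq_of_beq_eq_true h2 ▸ List.mem_cons_self, h1⟩
    | false =>
      rw [h2] at h1
      exact (ih h1).imp id fun ⟨b, h3, h4⟩ => ⟨b, List.mem_cons_of_mem _ h3, h4⟩

/-- the solutions of `x ^ d = 1` -/
noncomputable def frob (Z : List Ze) (d : ℕ) : List ℤ :=
  Int.ofNat 1 :: mapL (fun z => cond (dv z.2.1 d) (Int.ofNat 1) (Int.ofNat 0)) Z

/-- the row with the number `i` -/
noncomputable def row (RL : List Ro) (Z : List Ze) (i : ℕ) : Ro :=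
  cond (Nat.blt i 1000) (ntd RL (0, []) i) (1, frob Z (Nat.sub i 1000))

/-- the modulus of the row -/
noncomputable def rmod (a i : ℕ) : ℕ := cond (Nat.blt i 1000) a (Nat.sub i 1000)

/-- the bound which is used with the multiplier `y` -/
noncomputable def bnd (a n : ℕ) (Lo Hi : Bs) (y : ℤ) (i g : ℕ) (κ : ℕ → Bool) : Bool :=
  Int.rec (fun _ => lkB Lo i (cond (Nat.beq g 0) false (κ 0)) κ)
    (fun _ => lkB Hi i (cond (Nat.blt 1 g) (κ (Nat.mul a (Nat.div (Nat.sub n 1) g))) false) κ) y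

/-- the combination of the rows -/
noncomputable def acc (a n : ℕ) (RL : List Ro) (Z : List Ze) (Lo Hi : Bs) (ce : List (ℤ × ℕ)) :
    List ℤ → ℤ → (List ℤ → ℤ → Bool) → Bool :=
  List.rec (fun V k κ => κ V k) (fun p _ ih V k κ => Prod.rec (fun g w => bnd a n Lo Hi p.1 p.2 g fun b =>
    frcLZ (axz p.1 V w) fun V' => frcZ (Int.add k (Int.mul p.1 (Int.ofNat b))) fun k' => ih V' k' κ)
      (row RL Z p.2)) ce

/-- the upper bound for the fixed points -/
noncomputable def gF (n : ℕ) (F : List Fe) (L : List ℕ) : ℕ :=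
  List.rec n (fun q _ ih => mn (lkF F q n fun _ _ h => h) ih) L

/-- the upper bound for the number of elements -/
noncomputable def hiB (a n : ℕ) (F : List Fe) (z : Ze) : ℕ :=
  cond (dv z.2.1 a) (mn (Nat.div (Nat.mul (gF n F z.2.2.2) z.2.2.1) n) (Nat.sub a 1)) 0

/-- the lower bound -/
noncomputable def loB (n : ℕ) (F : List Fe) (z : Ze) : ℕ :=
  lkF F z.1 0 fun _ l _ => Nat.div (Nat.add (Nat.mul l z.2.2.1) (Nat.sub n 1)) n

/-- the maximum over the box is negative -/
noncomputable def bx (a n : ℕ) (F : List Fe) (Z : List Ze) : List ℤ → ℕ → ℕ → Bool :=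
  List.rec (fun _ x y => Nat.blt x y) (fun z _ ih V x y => List.rec false (fun w V' _ => Int.rec
    (fun m => frc (Nat.add x (Nat.mul (hiB a n F z) m)) fun x' => ih V' x' y)
    (fun m => frc (Nat.add y (Nat.mul (loB n F z) (Nat.succ m))) fun y' => ih V' x y') w) V) Z

/-- a certificate of Farkas -/
noncomputable def far (a n nD : ℕ) (RL : List Ro) (Z : List Ze) (F : List Fe) (Lo Hi : Bs) (lam : ℤ)
    (ce : List (ℤ × ℕ)) : Bool :=
  acc a n RL Z Lo Hi ce (List.replicate nD lam) (Int.mul lam (Int.ofNat a)) fun V k => List.rec false (fun v V' _ =>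
    Int.rec (fun x => bx a n F Z V' x 0) (fun y => bx a n F Z V' 0 (Nat.succ y)) (Int.sub v k)) V

/-- the check of a certificate -/
noncomputable def run (a n nD : ℕ) (RL : List Ro) (Z : List Ze) (t : Tr) : List Fe → Bs → Bs → Bool :=
  Tr.rec (fun lam ce F Lo Hi => far a n nD RL Z F Lo Hi lam ce)
    (fun F _ _ => anyL (fun e => Nat.blt e.2.2.2 e.2.2.1) F)
    (fun q l _ _ s t F Lo Hi => lkF F q false fun st lo hi => cond (Nat.beq (Nat.mod lo st) (Nat.mod l st))
      (cond (s ((q, st, lo, l) :: F) Lo Hi) (frc (Nat.add l st) fun l' => t ((q, st, l', hi) :: F) Lo Hi) false) false)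
    (fun i l _ _ s t F Lo Hi => frc (rmod a i) fun m => cond (dv m a) (frc (Nat.mul m l) fun b =>
      cond (s F Lo ((i, b) :: Hi)) (frc (Nat.add b m) fun b' => t F ((i, b') :: Lo) Hi) false) false) t

theorem run_bf (a n nD : ℕ) (RL : List Ro) (Z : List Ze) (q l : ℕ) (s t : Tr) (F : List Fe) (Lo Hi : Bs) :
    run a n nD RL Z (.bf q l s t) F Lo Hi = lkF F q false fun st lo hi => cond (Nat.beq (Nat.mod lo st) (Nat.mod l st))
      (cond (run a n nD RL Z s ((q, st, lo, l) :: F) Lo Hi)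
        (frc (Nat.add l st) fun l' => run a n nD RL Z t ((q, st, l', hi) :: F) Lo Hi) false) false := rfl

theorem run_bm (a n nD : ℕ) (RL : List Ro) (Z : List Ze) (i l : ℕ) (s t : Tr) (F : List Fe) (Lo Hi : Bs) :
    run a n nD RL Z (.bm i l s t) F Lo Hi = frc (rmod a i) fun m => cond (dv m a) (frc (Nat.mul m l) fun b =>
      cond (run a n nD RL Z s F Lo ((i, b) :: Hi))
        (frc (Nat.add b m) fun b' => run a n nD RL Z t F ((i, b') :: Lo) Hi) false) false := rfl

/-- a multiple of `u` -/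
noncomputable def fnd (u p n k : ℕ) : ℕ :=
  Nat.rec 0 (fun i ih => cond (Nat.beq (Nat.mod (Nat.mul u i) p) (Nat.mod n p)) (Nat.mul u i) ih) k

theorem fnd_spec (u p n k : ℕ) : ∃ i, i ≤ k - 1 ∧ fnd u p n k = u * i := by
  induction k with
  | zero => exact ⟨0, le_rfl, rfl⟩
  | succ k ih =>
    show ∃ i, i ≤ k ∧ cond (Nat.beq (Nat.mod (Nat.mul u k) p) (Nat.mod n p)) (Nat.mul u k) (fnd u p n k) = u * i
    cases Nat.beq (Nat.mod (Nat.mul u k) p) (Nat.mod n p) with
    | true => exact ⟨k, le_rfl, rfl⟩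
    | false =>
      obtain ⟨i, h1, h2⟩ := ih
      exact ⟨i, h1.trans (Nat.sub_le _ _), h2⟩

/-- an evaluated entry -/
noncomputable def mkF (q st r B : ℕ) (κ : Fe → Bool) : Bool :=
  frc st fun st' => frc (Nat.sub B (Nat.mod (Nat.sub B r) st')) fun h => κ (q, st', r, h)

theorem mkF_eq (q st r B : ℕ) (κ : Fe → Bool) : mkF q st r B κ = κ (q, st, r, B - (B - r) % st) := by
  rw [mkF, frc_eq, frc_eq]
  rfl

/-- the first bounds for the type `(prime, type, size)` -/
noncomputable def ini (a n : ℕ) (e : ℕ × ℕ × ℕ) (κ : Fe → Bool) : Bool :=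
  cond (dv e.1 a) (frc (Nat.div n (Nat.gcd n e.2.2)) fun u =>
    frc (mn n (Nat.div (Nat.mul n (Nat.sub a 1)) e.2.2)) fun B => cond (dv e.1 u) (mkF e.2.1 u 0 B κ)
      (frc (fnd u e.1 n e.1) fun r => cond (Nat.beq (Nat.mod r e.1) (Nat.mod n e.1))
        (mkF e.2.1 (Nat.mul u e.1) r B κ) false)) (κ (e.2.1, 1, 0, 0))

/-- the first state -/
noncomputable def iniL (a n : ℕ) (P : List (ℕ × ℕ × ℕ)) : (List Fe → Bool) → Bool :=
  List.rec (fun κ => κ []) (fun e _ ih κ => ini a n e fun x => ih fun F => κ (x :: F)) P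

/-- the list of types of prime order -/
noncomputable def okP (D : Dat) (P : List (ℕ × ℕ × ℕ)) : Bool :=
  allL (fun e => isPr e.1 && Nat.beq (D.ord e.2.1) e.1 && Nat.beq (D.cnt e.2.1) e.2.2 && Nat.blt 0 e.2.2 &&
    Nat.blt e.2.1 D.n) P

/-! ### the meaning -/

variable {K : Type u} [Group K] {D : Dat}

/-- the value of a row -/
noncomputable def val (T : TD K D) (A : Subgroup K) (w : List ℤ) : ℤ := ∑ t ∈ range D.n, (num T A t : ℤ) * nth w t

/-- an entry is correct -/
def FOk (T : TD K D) (A : Subgroup K) (e : Fe) : Prop :=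
  ∃ x, T.ty x = e.1 ∧ (orderOf x).Prime ∧ e.2.2.1 ≡ fix A x [MOD e.2.1] ∧ e.2.2.1 ≤ fix A x ∧ fix A x ≤ e.2.2.2

/-- the lower bounds hold -/
def BL (T : TD K D) (A : Subgroup K) (RL : List Ro) (Z : List Ze) (Lo : Bs) : Prop :=
  ∀ e ∈ Lo, (e.2 : ℤ) ≤ val T A (row RL Z e.1).2

/-- the upper bounds hold -/
def BH (T : TD K D) (A : Subgroup K) (RL : List Ro) (Z : List Ze) (Hi : Bs) : Prop :=
  ∀ e ∈ Hi, val T A (row RL Z e.1).2 ≤ (e.2 : ℤ)

/-- the situation -/
structure Hy (T : TD K D) (A : Subgroup K) (RL : List Ro) (Z : List Ze) : Prop where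
  mass : T.Mass
  unif : Unif T
  zs : ZS D Z
  lo : ∀ i, (row RL Z i).1 ≠ 0 → 0 ≤ val T A (row RL Z i).2
  hi : ∀ i, 1 < (row RL Z i).1 →
    val T A (row RL Z i).2 ≤ ((Nat.card A * ((A.index - 1) / (row RL Z i).1) : ℕ) : ℤ)
  dvd : ∀ i, rmod (Nat.card A) i ∣ Nat.card A → (rmod (Nat.card A) i : ℤ) ∣ val T A (row RL Z i).2

variable {T : TD K D} {A : Subgroup K} {RL : List Ro} {Z : List Ze} {F : List Fe} {Lo Hi : Bs}

theorem cond_ff {a b : Bool} (h : cond a b false = true) : a = true ∧ b = true := by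
  cases a
  · cases h
  · exact ⟨rfl, h⟩

theorem Hy.bnd (H : Hy T A RL Z) (hL : BL T A RL Z Lo) (hH : BH T A RL Z Hi) {y : ℤ} {i : ℕ} {κ : ℕ → Bool}
    (h : bnd (Nat.card A) A.index Lo Hi y i (row RL Z i).1 κ = true) :
    ∃ b, κ b = true ∧ y * b ≤ y * val T A (row RL Z i).2 := by
  have e1 := H.lo i
  have e2 := H.hi i
  have e3 : ∀ b, (i, b) ∈ Lo → (b : ℤ) ≤ val T A (row RL Z i).2 := fun b h => hL (i, b) h
  have e4 : ∀ b, (i, b) ∈ Hi → val T A (row RL Z i).2 ≤ (b : ℤ) := fun b h => hH (i, b) h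
  generalize val T A (row RL Z i).2 = v at e1 e2 e3 e4 ⊢
  generalize (row RL Z i).1 = g at h e1 e2
  cases y with
  | ofNat y =>
    rcases lkB_spec (d := cond (Nat.beq g 0) false (κ 0)) h with h1 | ⟨b, h1, h2⟩
    · refine ⟨0, ?_, mul_le_mul_of_nonneg_left (e1 fun h2 => ?_) (Int.natCast_nonneg y)⟩
      · revert h1
        cases Nat.beq g 0
        exacts [id, nofun]
      · rw [h2] at h1
        cases h1
    · exact ⟨b, h2, mul_le_mul_of_nonneg_left (e3 b h1) (Int.natCast_nonneg y)⟩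
  | negSucc y =>
    rcases lkB_spec (d := cond (Nat.blt 1 g) (κ (Nat.card A * ((A.index - 1) / g))) false) h with h1 | ⟨b, h1, h2⟩
    · obtain ⟨h2, h3⟩ := cond_ff h1
      exact ⟨_, h3, mul_le_mul_of_nonpos_left (e2 (Nat.blt_eq ▸ h2)) (Int.negSucc_lt_zero y).le⟩
    · exact ⟨b, h2, mul_le_mul_of_nonpos_left (e4 b h1) (Int.negSucc_lt_zero y).le⟩

theorem Hy.acc (H : Hy T A RL Z) (hL : BL T A RL Z Lo) (hH : BH T A RL Z Hi) {κ : List ℤ → ℤ → Bool}
    (ce : List (ℤ × ℕ)) : ∀ (V : List ℤ) (k : ℤ), V.length = D.n → k ≤ val T A V →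
      acc (Nat.card A) A.index RL Z Lo Hi ce V k κ = true → ∃ V' k', κ V' k' = true ∧ k' ≤ val T A V' := by
  induction ce with
  | nil => exact fun V k _ h1 h2 => ⟨V, k, h2, h1⟩
  | cons p ce ih =>
    intro V k hV h1 h2
    obtain ⟨b, h3, h4⟩ := H.bnd hL hH (κ := fun b => frcLZ (axz p.1 V (row RL Z p.2).2) fun V' =>
      frcZ (Int.add k (Int.mul p.1 (Int.ofNat b))) fun k' => Sp.acc (Nat.card A) A.index RL Z Lo Hi ce V' k' κ) h2
    rw [frcLZ_eq, frcZ_eq] at h3
    refine ih _ _ ((length_axz _ _ _).trans hV) ?_ h3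
    rw [val, Finset.sum_congr rfl fun t ht => congrArg _ (nth_axz p.1 V _ (hV ▸ mem_range.1 ht))]
    simp only [mul_add, Finset.sum_add_distrib, mul_left_comm _ p.1, ← Finset.mul_sum]
    exact add_le_add h1 h4

variable [Finite K]

theorem index_pos' (A : Subgroup K) : 0 < A.index := Nat.pos_of_ne_zero Subgroup.index_ne_zero_of_finite

theorem Hy.gF (H : Hy T A RL Z) (hF : ∀ e ∈ F, FOk T A e) (x : K) (L : List ℕ)
    (hL : ∀ q ∈ L, ∃ e, D.pwf (T.ty x) e = q) : fix A x ≤ gF A.index F L := by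
  induction L with
  | nil => exact fix_le_index A x
  | cons q L ih =>
    refine le_mn (lkF_ind (P := fun b => fix A x ≤ b) (fix_le_index A x) fun e he h1 => ?_)
      (ih fun q' hq' => hL q' (List.mem_cons_of_mem _ hq'))
    obtain ⟨k, hk⟩ := hL q List.mem_cons_self
    obtain ⟨y, h2, h3, -, -, h4⟩ := hF e he
    rw [H.unif.fix_eq h3 (h2.trans (h1.trans (hk.symm.trans (T.pow x k).symm)))] at h4
    exact (fix_le_pow A x k).trans h4

theorem Hy.hiB (H : Hy T A RL Z) (hF : ∀ e ∈ F, FOk T A e) {z : Ze} (hz : ZOk D z) :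
    num T A z.1 ≤ hiB (Nat.card A) A.index F z := by
  obtain ⟨h0, h1, h2, h3, h4⟩ := hz
  refine cond_le (fun _ => le_mn ((Nat.le_div_iff_mul_le (index_pos' A)).2 ?_) (num_le_pred (h1 ▸ h2))) fun h5 => ?_
  · rw [mul_comm, ← h3]
    exact num_mul_le H.mass h0 fun x hx => H.gF hF x _ (hx ▸ h4)
  · have h6 := num_mul_le (A := A) H.mass h0 (G := 0) fun x hx =>
      (fix_eq_zero (by rw [T.ord, hx, h1]; exact dv_false h5)).le
    rw [zero_mul, Nat.le_zero, Nat.mul_eq_zero] at h6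
    exact (h6.resolve_left (index_pos' A).ne').le

theorem Hy.loB (H : Hy T A RL Z) (hF : ∀ e ∈ F, FOk T A e) {z : Ze} (hz : ZOk D z) :
    loB A.index F z ≤ num T A z.1 := by
  refine lkF_ind (P := fun b => b ≤ num T A z.1) (Nat.zero_le _) fun e he h1 => ?_
  obtain ⟨y, h2, h3, -, h4, -⟩ := hF e he
  have h5 := le_num_mul H.mass hz.1 fun x hx => h4.trans (H.unif.fix_eq (A := A) h3 (h2.trans (h1.trans hx.symm))).le
  have h6 := index_pos' A
  refine Nat.le_of_lt_succ ((Nat.div_lt_iff_lt_mul h6).2 ?_)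
  show e.2.2.1 * z.2.2.1 + (A.index - 1) < (num T A z.1 + 1) * A.index
  rw [add_mul, one_mul, mul_comm (num T A z.1), ← hz.2.2.2.1]
  omega

theorem Hy.bx (H : Hy T A RL Z) (hF : ∀ e ∈ F, FOk T A e) (W : List Ze) : ∀ (i k : ℕ) (V : List ℤ) (x y : ℕ),
    (∀ z ∈ W, ZOk D z) → W.map Prod.fst = List.range' i k → bx (Nat.card A) A.index F W V x y = true →
      (x : ℤ) + ∑ u ∈ range k, (num T A (u + i) : ℤ) * nth V u < y := by
  induction W with
  | nil =>
    intro i k V x y _ h1 h2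
    obtain rfl : k = 0 := by simpa using congrArg List.length h1.symm
    have h3 : x < y := Nat.blt_eq ▸ h2
    simpa using h3
  | cons z W ih =>
    intro i k V x y hZ h1 h2
    cases k with
    | zero => cases h1
    | succ k =>
    cases V with
    | nil => cases h2
    | cons w V =>
    obtain ⟨h3, h4⟩ := List.cons.inj h1
    have hz := hZ z List.mem_cons_self
    have h6 := H.hiB hF hz
    have h7 := H.loB hF hz
    have h11 : ∀ u, u + 1 + i = u + (i + 1) := fun u => by omega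
    rw [Finset.sum_range_succ', zero_add]
    simp only [nth_succ, nth_zero, h11]
    rw [h3] at h6 h7
    cases w with
    | ofNat m =>
      have h12 := ih (i + 1) k V _ y (fun z' hz' => hZ z' (List.mem_cons_of_mem _ hz')) h4
        ((frc_eq (x + Sp.hiB (Nat.card A) A.index F z * m) fun x' =>
          Sp.bx (Nat.card A) A.index F W V x' y).symm.trans h2)
      have h13 : (num T A i : ℤ) * m ≤ (Sp.hiB (Nat.card A) A.index F z : ℤ) * m :=
        mul_le_mul_of_nonneg_right (Nat.cast_le.2 h6) (Int.natCast_nonneg m)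
      rw [Int.ofNat_eq_natCast]
      push_cast at h12
      linarith
    | negSucc m =>
      have h12 := ih (i + 1) k V x _ (fun z' hz' => hZ z' (List.mem_cons_of_mem _ hz')) h4
        ((frc_eq (y + Sp.loB A.index F z * (m + 1)) fun y' =>
          Sp.bx (Nat.card A) A.index F W V x y').symm.trans h2)
      have h13 : (Sp.loB A.index F z : ℤ) * (m + 1) ≤ (num T A i : ℤ) * (m + 1) :=
        mul_le_mul_of_nonneg_right (Nat.cast_le.2 h7) (by positivity)
      rw [Int.negSucc_eq]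
      push_cast at h12
      linarith

omit [Finite K] in
theorem num_zero (hZ : ZS D Z) : num T A 0 = 1 := by
  rw [num_def, Nat.card_eq_one_iff_exists]
  exact ⟨⟨1, (hZ.ty_zero _).2 rfl⟩, fun s => Subtype.ext (Subtype.ext ((hZ.ty_zero _).1 s.2))⟩

theorem Hy.far (H : Hy T A RL Z) (hF : ∀ e ∈ F, FOk T A e) (hL : BL T A RL Z Lo) (hH : BH T A RL Z Hi) {lam : ℤ}
    {ce : List (ℤ × ℕ)} : ¬ far (Nat.card A) A.index D.n RL Z F Lo Hi lam ce = true := by
  intro hs
  have h5 : val T A (List.replicate D.n lam) = lam * Nat.card A := by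
    rw [card_eq_sum (T := T) A, Nat.cast_sum, Finset.mul_sum]
    exact Finset.sum_congr rfl fun t ht => by rw [nth_eq, List.getD_replicate _ (mem_range.1 ht), mul_comm]
  obtain ⟨V, k, h1, h2⟩ := H.acc hL hH ce _ _ List.length_replicate h5.ge hs
  cases V with
  | nil => cases h1
  | cons v V =>
  have h3 : (Int.rec (fun x => Sp.bx (Nat.card A) A.index F Z V x 0)
      (fun y => Sp.bx (Nat.card A) A.index F Z V 0 (y + 1)) (v - k) : Bool) = true := h1
  have h4 : v - k + ∑ u ∈ range (D.n - 1), (num T A (u + 1) : ℤ) * nth V u < 0 := by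
    generalize v - k = r at h3
    cases r with
    | ofNat m => exact H.bx hF Z 1 _ V m 0 H.zs.ok H.zs.seq h3
    | negSucc m =>
      have h5 := H.bx hF Z 1 _ V 0 (m + 1) H.zs.ok H.zs.seq h3
      rw [Int.negSucc_eq]
      push_cast at h5
      linarith
  obtain ⟨j, hj⟩ : ∃ j, D.n = j + 1 := ⟨_, (Nat.succ_pred_eq_of_pos H.zs.pos).symm⟩
  rw [val, hj, Finset.sum_range_succ'] at h2
  rw [hj, Nat.add_sub_cancel] at h4
  simp only [nth_succ, nth_zero, num_zero H.zs] at h2
  push_cast at h2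
  linarith

theorem Hy.run (H : Hy T A RL Z) (t : Tr) : ∀ {F : List Fe} {Lo Hi : Bs}, (∀ e ∈ F, FOk T A e) → BL T A RL Z Lo →
    BH T A RL Z Hi → ¬ run (Nat.card A) A.index D.n RL Z t F Lo Hi = true := by
  induction t with
  | far lam ce => exact fun hF hL hH => H.far hF hL hH
  | emp =>
    intro F _ _ hF _ _ h
    obtain ⟨e, he, h1⟩ := anyL_spec h
    obtain ⟨x, -, -, -, h2, h3⟩ := hF e he
    exact absurd (h2.trans h3) (not_le.2 (Nat.blt_eq ▸ h1))
  | bf q l s t ihs iht =>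
    intro F Lo Hi hF hL hH
    rw [run_bf]
    refine lkF_ind (P := fun b => ¬ b = true) Bool.false_ne_true fun e he h1 h2 => ?_
    obtain ⟨h3, h4⟩ := cond_ff h2
    obtain ⟨h5, h6⟩ := cond_ff h4
    rw [frc_eq] at h6
    obtain ⟨x, h7, h8, h9, h10, h11⟩ := hF e he
    have h12 : l ≡ fix A x [MOD e.2.1] := Nat.ModEq.trans (Nat.eq_of_beq_eq_true h3).symm h9
    rcases le_or_gt (fix A x) l with h13 | h13
    · refine ihs (List.forall_mem_cons.2 ⟨?_, hF⟩) hL hH h5
      exact ⟨x, h7.trans h1, h8, h9, h10, h13⟩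
    · refine iht (List.forall_mem_cons.2 ⟨?_, hF⟩) hL hH h6
      refine ⟨x, h7.trans h1, h8, Nat.ModEq.trans (Nat.add_mod_right l e.2.1) h12, ?_, h11⟩
      have h14 := Nat.le_of_dvd (Nat.sub_pos_of_lt h13) ((Nat.modEq_iff_dvd' h13.le).1 h12)
      show l + e.2.1 ≤ _
      omega
  | bm i l s t ihs iht =>
    intro F Lo Hi hF hL hH h
    rw [run_bm, frc_eq] at h
    obtain ⟨h1, h2⟩ := cond_ff h
    rw [frc_eq] at h2
    obtain ⟨h3, h4⟩ := cond_ff h2
    rw [frc_eq] at h4
    obtain ⟨m, hm⟩ := H.dvd i (dv_iff.1 h1)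
    rcases le_or_gt m l with h5 | h5
    · refine ihs hF hL (List.forall_mem_cons.2 ⟨?_, hH⟩) h3
      show _ ≤ ((rmod (Nat.card A) i * l : ℕ) : ℤ)
      rw [hm, Nat.cast_mul]
      exact mul_le_mul_of_nonneg_left h5 (Int.natCast_nonneg _)
    · refine iht hF (List.forall_mem_cons.2 ⟨?_, hL⟩) hH h4
      show ((rmod (Nat.card A) i * l + rmod (Nat.card A) i : ℕ) : ℤ) ≤ _
      rw [hm, Nat.cast_add, Nat.cast_mul, ← mul_add_one]
      exact mul_le_mul_of_nonneg_left h5 (Int.natCast_nonneg _)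

theorem le_round {f r st B : ℕ} (h1 : r ≡ f [MOD st]) (h2 : r ≤ f) (h3 : f ≤ B) : f ≤ B - (B - r) % st := by
  obtain ⟨k, hk⟩ := (Nat.modEq_iff_dvd' h2).1 h1
  have h4 := Nat.div_add_mod (B - r) st
  have h5 : st * k ≤ st * ((B - r) / st) := by
    rcases Nat.eq_zero_or_pos st with rfl | h0
    · simp
    · exact Nat.mul_le_mul_left _ ((Nat.le_div_iff_mul_le h0).2 (by rw [mul_comm]; omega))
  omega

theorem fix_modEq (A : Subgroup K) {x : K} {p : ℕ} (hp : p.Prime) (hx : orderOf x = p) : A.index ≡ fix A x [MOD p] := by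
  have := Fact.mk hp
  have h1 : IsPGroup p (Subgroup.zpowers x) := IsPGroup.of_card (n := 1) (by rw [Nat.card_zpowers, hx, pow_one])
  have h2 := h1.card_modEq_card_fixedPoints (K ⧸ A)
  refine h2.trans (Eq.subst (motive := fun n => _ ≡ n [MOD p]) (Nat.card_congr (Equiv.subtypeEquivRight fun β => ?_))
    (Nat.ModEq.refl _))
  exact ⟨fun h => h ⟨x, Subgroup.mem_zpowers x⟩, fun h y => smul_eq_of_zpowers h y y.2⟩

theorem ini_spec (hm : T.Mass) (hu : Unif T) {e : ℕ × ℕ × ℕ} (hp : e.1.Prime) (h1 : D.ord e.2.1 = e.1)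
    (h2 : D.cnt e.2.1 = e.2.2) (h3 : 0 < e.2.2) (h4 : e.2.1 < D.n) {κ : Fe → Bool}
    (h : ini (Nat.card A) A.index e κ = true) : ∃ x, FOk T A x ∧ κ x = true := by
  obtain ⟨p, q, ct⟩ := e
  dsimp only at hp h1 h2 h3 h4
  obtain ⟨⟨x, hx⟩⟩ := (Nat.card_pos_iff.1 ((hm.2 q h4).trans h2 ▸ h3)).1
  have h5 : orderOf x = p := by rw [T.ord, hx, h1]
  have h6 : fix A x * ct = A.index * num T A q := h2 ▸
    le_antisymm (le_num_mul hm h4 fun _ hy => (hu.fix_eq (h5 ▸ hp) (hx.trans hy.symm)).le)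
      (num_mul_le hm h4 fun _ hy => (hu.fix_eq (h5 ▸ hp) (hx.trans hy.symm)).ge)
  have h0 : 0 < Nat.gcd A.index ct := Nat.gcd_pos_of_pos_right _ h3
  have h7 : A.index / Nat.gcd A.index ct ∣ fix A x := by
    refine (Nat.coprime_div_gcd_div_gcd h0).dvd_of_dvd_mul_right ⟨num T A q, ?_⟩
    refine Nat.eq_of_mul_eq_mul_right h0 ?_
    rw [mul_assoc, Nat.div_mul_cancel (Nat.gcd_dvd_right _ _), mul_right_comm,
      Nat.div_mul_cancel (Nat.gcd_dvd_left _ _), h6]
  have h8 : fix A x ≤ mn A.index (A.index * (Nat.card A - 1) / ct) :=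
    le_mn (fix_le_index A x) ((Nat.le_div_iff_mul_le h3).2
      (h6 ▸ Nat.mul_le_mul_left _ (num_le_pred (h1 ▸ hp.one_lt.ne'))))
  have h9 : 0 < A.index / Nat.gcd A.index ct :=
    Nat.div_pos (Nat.le_of_dvd (index_pos' A) (Nat.gcd_dvd_left _ _)) h0
  rw [ini] at h
  dsimp only at h
  cases h10 : dv p (Nat.card A) with
  | false =>
    rw [h10, cond_false] at h
    have h11 := fix_eq_zero (A := A) (h5 ▸ dv_false h10)
    exact ⟨_, ⟨x, hx, h5 ▸ hp, Nat.modEq_one, Nat.zero_le _, h11.le⟩, h⟩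
  | true =>
    rw [h10, cond_true, frc_eq, frc_eq] at h
    change Nat.div _ _ ∣ _ at h7
    change 0 < Nat.div _ _ at h9
    generalize Nat.div A.index (Nat.gcd A.index ct) = u at h h7 h9
    cases h11 : dv p u with
    | true =>
      rw [h11, cond_true, mkF_eq] at h
      have h12 : 0 ≡ fix A x [MOD u] := (Nat.modEq_zero_iff_dvd.2 h7).symm
      exact ⟨_, ⟨x, hx, h5 ▸ hp, h12, Nat.zero_le _, le_round h12 (Nat.zero_le _) h8⟩, h⟩
    | false =>
      rw [h11, cond_false, frc_eq] at h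
      obtain ⟨h12, h13⟩ := cond_ff h
      rw [mkF_eq] at h13
      obtain ⟨i, hi, h14⟩ := fnd_spec u p A.index p
      rw [h14] at h12 h13
      have h15 : u * i ≡ fix A x [MOD u * p] :=
        (Nat.modEq_and_modEq_iff_modEq_mul ((hp.coprime_iff_not_dvd.2 (dv_false h11)).symm)).1
          ⟨(Nat.modEq_zero_iff_dvd.2 (dvd_mul_right u i)).trans (Nat.modEq_zero_iff_dvd.2 h7).symm,
            Nat.ModEq.trans (Nat.eq_of_beq_eq_true h12) (fix_modEq A hp h5)⟩
      have h16 : u * i ≤ fix A x := by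
        have h17 : u * i < u * p := Nat.mul_lt_mul_of_pos_left (by have := hp.pos; omega) h9
        rw [← Nat.mod_eq_of_lt h17, h15]
        exact Nat.mod_le _ _
      exact ⟨_, ⟨x, hx, h5 ▸ hp, h15, h16, le_round h15 h16 h8⟩, h13⟩

theorem iniL_spec (hm : T.Mass) (hu : Unif T) {P : List (ℕ × ℕ × ℕ)} (hP : okP D P = true) :
    ∀ {κ : List Fe → Bool}, iniL (Nat.card A) A.index P κ = true → ∃ F, (∀ e ∈ F, FOk T A e) ∧ κ F = true := by
  induction P with
  | nil => exact fun h => ⟨[], fun _ h => absurd h List.not_mem_nil, h⟩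
  | cons e P ih =>
    intro κ h
    obtain ⟨h1, h2⟩ := allL_cons hP
    simp only [Bool.and_eq_true, Nat.beq_eq, Nat.blt_eq] at h1
    obtain ⟨x, h3, h4⟩ := ini_spec hm hu (isPr_spec h1.1.1.1.1) h1.1.1.1.2 h1.1.1.2 h1.1.2 h1.2 h
    obtain ⟨F, h5, h6⟩ := ih h2 h4
    exact ⟨x :: F, List.forall_mem_cons.2 ⟨h3, h5⟩, h6⟩

end Cfsg.Agent.SM.Sp
end

-- part: SM/Sp/Ch
section
/-!
# SM (S3570), sporadic socles: two facts on characters (helper95)

* `boxCh : BoxCh`.
-/

set_option autoImplicit false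

namespace Cfsg.Agent.SM.Sp

open Cfsg Cfsg.Agent.Characters

namespace Ch

variable {K : Type} [Group K] (X Y : Subgroup K) [Fintype X] [Fintype Y] {χ : K → ℂ}

theorem shift (x₀ x₁ : X) (y₀ y₁ : Y) (hc : IsClassFunction K χ) :
    ∑ x : X, ∑ y : Y, χ (y₁ * (x₀ * x * x₁) * (y₀ * y)) = ∑ x : X, ∑ y : Y, χ (x * y) := by
  rw [← Equiv.sum_comp ((Equiv.mulLeft x₀).trans (Equiv.mulRight x₁)) (fun x : X => ∑ y : Y, χ (x * y))]
  refine Finset.sum_congr rfl fun x _ => ?_
  rw [← Equiv.sum_comp ((Equiv.mulLeft y₀).trans (Equiv.mulRight y₁)) (fun y : Y => χ (_ * y))]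
  refine Finset.sum_congr rfl fun y _ => ?_
  rw [← hc _ (y₁ : K)⁻¹]
  congr 1
  simp only [Equiv.trans_apply, Equiv.coe_mulLeft, Equiv.coe_mulRight, Subgroup.coe_mul]
  group

theorem sum_zero [Fintype K] (hχ : IsIrrCharacter K χ) (h1 : χ 1 ≠ 1) : ∑ g, χ g = 0 := by
  have h := Core.classInner_irr_ne hχ Core.isIrr_one fun e => h1 (by rw [e]; rfl)
  rw [Core.classInner_def, mul_eq_zero] at h
  simpa using h.resolve_left (inv_ne_zero Core.card_ne_zero_complex)

theorem prod_zero [Fintype K] (h : Ex78.Pd X Y) (hχ : IsIrrCharacter K χ) (h1 : χ 1 ≠ 1) :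
    ∑ x : X, ∑ y : Y, χ (x * y) = 0 := by
  have hc := Core.isIrr_isClassFunction hχ
  have h2 : ∀ g : K, ∑ x : X, ∑ y : Y, χ (x * g * y) = ∑ x : X, ∑ y : Y, χ (x * y) := fun g => by
    obtain ⟨x₀, hx, y₀, hy, rfl⟩ := h g
    rw [← shift X Y 1 ⟨x₀, hx⟩ ⟨y₀, hy⟩ 1 hc]
    refine Finset.sum_congr rfl fun x _ => Finset.sum_congr rfl fun y _ => ?_
    congr 1
    simp only [Subgroup.coe_one]
    group
  have h3 : ∑ g : K, ∑ x : X, ∑ y : Y, χ (x * g * y) = 0 := by
    rw [Finset.sum_comm]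
    refine Finset.sum_eq_zero fun x _ => ?_
    rw [Finset.sum_comm]
    refine Finset.sum_eq_zero fun y _ => ?_
    rw [← sum_zero hχ h1]
    exact Equiv.sum_comp ((Equiv.mulLeft (x : K)).trans (Equiv.mulRight (y : K))) χ
  simp only [h2] at h3
  rw [Finset.sum_const, nsmul_eq_mul, mul_eq_zero] at h3
  exact h3.resolve_left (by exact_mod_cast Finset.card_ne_zero.2 Finset.univ_nonempty)

theorem one [Finite K] (h : Ex78.Pd X Y) (hχ : IsIrrCharacter K χ) (h1 : χ 1 ≠ 1) :
    ∑ x : X, χ x = 0 ∨ ∑ y : Y, χ y = 0 := by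
  have : Fintype K := Fintype.ofFinite K
  have hc := Core.isIrr_isClassFunction hχ
  have h2 : ∀ a : K, ∑ x : X, ∑ y : Y, χ (a * x * a⁻¹ * y) = 0 := fun a => by
    obtain ⟨x₀, hx, y₀, hy, e⟩ := h a⁻¹
    rw [← prod_zero X Y h hχ h1, ← shift X Y (⟨x₀, hx⟩ : X)⁻¹ ⟨x₀, hx⟩ ⟨y₀, hy⟩ (⟨y₀, hy⟩ : Y)⁻¹ hc]
    refine Finset.sum_congr rfl fun x _ => Finset.sum_congr rfl fun y _ => ?_
    have ea : a = y₀⁻¹ * x₀⁻¹ := by rw [← mul_inv_rev, ← e, inv_inv]
    congr 1
    rw [ea]
    simp only [Subgroup.coe_inv]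
    group
  have h3 : ∑ a : K, ∑ x : X, ∑ y : Y, χ (a * x * a⁻¹ * y) =
      Nat.card K / χ 1 * ((∑ x : X, χ x) * ∑ y : Y, χ y) := by
    rw [Finset.sum_comm, Finset.sum_mul_sum, Finset.mul_sum]
    refine Finset.sum_congr rfl fun x _ => ?_
    rw [Finset.sum_comm, Finset.mul_sum]
    refine Finset.sum_congr rfl fun y _ => ?_
    rw [Central.sum_char_conj_mul hχ]
    ring
  simp only [h2, Finset.sum_const_zero] at h3
  exact mul_eq_zero.1 ((mul_eq_zero.1 h3.symm).resolve_left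
    (div_ne_zero Core.card_ne_zero_complex (Core.isIrr_apply_one_ne_zero hχ)))

theorem two [Finite K] (A : Subgroup K) [Fintype A] (n : ℕ) (χ : ℕ → K → ℂ) (d m : ℕ → ℕ)
    (h1 : ∀ j < n, IsIrrCharacter K (χ j)) (h2 : ∀ i < n, ∀ j < n, χ i = χ j → i = j)
    (h3 : ∀ ψ, IsIrrCharacter K ψ → ∃ j < n, ψ = χ j) (h4 : ∀ j < n, χ j 1 = d j)
    (h5 : ∀ j < n, ∑ x : A, χ j x = (Nat.card A * m j : ℕ)) :
    ∑ j ∈ Finset.range n, d j * m j = A.index ∧ ∃ j < n, d j = 1 ∧ m j = 1 := by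
  classical
  have hA : (Nat.card A : ℂ) ≠ 0 := Core.card_ne_zero_complex
  refine ⟨?_, ?_⟩
  · have := Core.finite_irr (G := K)
    have : Fintype (IrrCharacter K) := Fintype.ofFinite _
    have e1 : ∀ g : K, ∑ j ∈ Finset.range n, χ j 1 * χ j g = if g = 1 then (Nat.card K : ℂ) else 0 := fun g => by
      rw [← Counting.sum_irr_one_mul g]
      refine Finset.sum_bij (fun j hj => ⟨χ j, h1 j (Finset.mem_range.1 hj)⟩) (fun _ _ => Finset.mem_univ _)
        (fun i hi j hj e => h2 i (Finset.mem_range.1 hi) j (Finset.mem_range.1 hj) (congrArg Subtype.val e))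
        (fun ψ _ => ?_) fun _ _ => rfl
      obtain ⟨j, hj, e⟩ := h3 ψ.1 ψ.2
      exact ⟨j, Finset.mem_range.2 hj, Subtype.ext e.symm⟩
    have e2 : ∑ x : A, ∑ j ∈ Finset.range n, χ j 1 * χ j x = Nat.card K := by
      simp only [e1]
      refine (Finset.sum_eq_single (1 : A) (fun x _ hx => if_neg fun e => hx (Subtype.ext e)) (by simp)).trans ?_
      simp
    rw [Finset.sum_comm] at e2
    have e3 : ∑ j ∈ Finset.range n, ∑ x : A, χ j 1 * χ j x =
        Nat.card A * ((∑ j ∈ Finset.range n, d j * m j : ℕ) : ℂ) := by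
      rw [Nat.cast_sum, Finset.mul_sum]
      refine Finset.sum_congr rfl fun j hj => ?_
      rw [← Finset.mul_sum, h4 j (Finset.mem_range.1 hj), h5 j (Finset.mem_range.1 hj)]
      push_cast
      ring
    rw [e3, ← A.card_mul_index, Nat.cast_mul] at e2
    exact_mod_cast mul_left_cancel₀ hA e2
  · obtain ⟨j, hj, e⟩ := h3 1 Core.isIrr_one
    have e1 := h4 j hj
    have e2 := h5 j hj
    rw [← e] at e1 e2
    rw [Pi.one_apply] at e1
    refine ⟨j, hj, by exact_mod_cast e1.symm, ?_⟩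
    simp only [Pi.one_apply, Finset.sum_const, Finset.card_univ, nsmul_eq_mul, mul_one] at e2
    rw [← Nat.card_eq_fintype_card, Nat.cast_mul] at e2
    have e3 : (Nat.card A : ℂ) * 1 = Nat.card A * m j := by rw [mul_one]; exact e2
    exact_mod_cast (mul_left_cancel₀ hA e3).symm

end Ch

/-- **BoxCh** -/
theorem boxCh : BoxCh := fun _ _ _ =>
  ⟨fun X Y _ _ _ h hχ h1 => Ch.one X Y h hχ h1, fun A _ n χ d m => Ch.two A n χ d m⟩

end Cfsg.Agent.SM.Sp
end

-- part: SM/Sp/Rows
section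
/-!
# SM (S3570), sporadic socles: the rows of a table, orders which do not occur (helper26)
-/

set_option autoImplicit false

namespace Cfsg.Agent.SM.Sp

open Cfsg Cfsg.Agent.TAB.Eng Cfsg.Agent.TAB.Use Cfsg.Agent.SB.SporL Cfsg.Agent.TH Cfsg.Agent.TH.Spor Finset

/-- the test for a sum of different characters of degree `g > 1` -/
noncomputable def gdT (dg : List ℕ) (L : List (ℕ × ℤ)) (g : ℕ) : Bool :=
  Nat.blt 1 g && allL (fun q => Nat.beq (ntd dg 0 q.1) g && decide (q.2 = 1)) L && decide (L.map Prod.fst).Nodup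

/-- the common degree of the constituents -/
noncomputable def gd (dg : List ℕ) (L : List (ℕ × ℤ)) : ℕ :=
  List.rec 0 (fun p _ _ => frc (ntd dg 0 p.1) fun g => cond (gdT dg L g) g 0) L

theorem gd_spec {dg : List ℕ} {L : List (ℕ × ℤ)} (h : gd dg L ≠ 0) : gdT dg L (gd dg L) = true := by
  cases L with
  | nil => exact absurd rfl h
  | cons p L =>
    have h1 : gd dg (p :: L) = cond (gdT dg (p :: L) (ntd dg 0 p.1)) (ntd dg 0 p.1) 0 :=
      frc_eq (ntd dg 0 p.1) fun g => cond (gdT dg (p :: L) g) g 0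
    rw [h1] at h ⊢
    cases h2 : gdT dg (p :: L) (ntd dg 0 p.1) with
    | true => exact h2
    | false =>
      rw [h2] at h
      exact absurd rfl h

/-- the rows of a table -/
noncomputable def rows (dg : List ℕ) (R : Rows) : List Ro := mapL (fun r => (gd dg r.1, r.2)) R.rel

/-- evaluate rows -/
noncomputable def frcRo (L : List Ro) : (List Ro → Bool) → Bool :=
  List.rec (fun κ => κ []) (fun r _ ih κ => frc r.1 fun x => frcLZ r.2 fun y => ih fun L' => κ ((x, y) :: L')) L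

theorem frcRo_eq (L : List Ro) (κ : List Ro → Bool) : frcRo L κ = κ L := by
  induction L generalizing κ with
  | nil => rfl
  | cons r L ih =>
    show (frc r.1 fun x => frcLZ r.2 fun y => frcRo L fun L' => κ ((x, y) :: L')) = _
    rw [frc_eq, frcLZ_eq, ih]

/-- the head of a certificate: order, lower bounds, upper bounds -/
abbrev Hd : Type := ℕ × Bs × Bs

/-- a certificate -/
noncomputable def okC (N nD : ℕ) (RL : List Ro) (Z : List Ze) (P : List (ℕ × ℕ × ℕ)) (x : Hd × Tr) : Bool :=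
  frc (Nat.div N x.1.1) fun n => iniL x.1.1 n P fun F => run x.1.1 n nD RL Z x.2 F x.1.2.1 x.1.2.2

/-- the certificates -/
noncomputable def okL (D : Dat) (R : Rows) (P : List (ℕ × ℕ × ℕ)) (Z : List Ze) (CL : List (Hd × Tr)) : Bool :=
  frc D.N fun N => frc D.n fun nD => frcL R.deg fun dg => frcRo (rows dg R) fun RL => allL (okC N nD RL Z P) CL

/-- the rows which are irreducible characters of degree `≠ 1` -/
noncomputable def okSG (R : Rows) (SG : List ℕ) : Bool :=
  allL (fun i => Nat.blt i 1000 && List.rec false (fun p L _ => allL (fun _ => false) L && decide (p.2 = 1) &&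
    Nat.blt p.1 R.n && !Nat.beq (ntd R.deg 0 p.1) 1) (ntd R.rel ([], []) i).1) SG

/-- the degrees of the non-trivial characters are at least `md` -/
noncomputable def okMd (R : Rows) (md : ℕ) : Bool :=
  Nat.blt 1 md && List.rec false (fun _ L _ => allL (Nat.ble md) L) R.deg

variable {K : Type} [Group K] [Finite K] {D : Dat} {T : TD K D} {R : Rows} {Z : List Ze}

theorem ntd_mapL {α β : Type} (f : α → β) (l : List α) (d : α) (i : ℕ) : ntd (mapL f l) (f d) i = f (ntd l d i) := by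
  induction l generalizing i with
  | nil => rfl
  | cons a l ih => cases i with
    | zero => rfl
    | succ i => exact ih i

theorem row_lt (dg : List ℕ) {i : ℕ} (h : Nat.blt i 1000 = true) :
    row (rows dg R) Z i = (gd dg (ntd R.rel ([], []) i).1, (ntd R.rel ([], []) i).2) := by
  rw [row, h, cond_true]
  exact ntd_mapL (fun r : List (ℕ × ℤ) × List ℤ => (gd dg r.1, r.2)) R.rel ([], []) i

theorem row_add (RL : List Ro) (d : ℕ) : row RL Z (1000 + d) = (1, frob Z d) := by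
  have h : Nat.blt (1000 + d) 1000 = false := by
    rw [← Bool.not_eq_true, Nat.blt_eq]
    omega
  rw [row, h, cond_false]
  exact congrArg (fun x => (1, frob Z x)) (Nat.add_sub_cancel_left 1000 d)

theorem exists_mult {χ : K → ℂ} (h : IsIrrCharacter K χ) (A : Subgroup K) [Fintype A] :
    ∃ m : ℕ, ∑ s : A, χ s = (Nat.card A * m : ℕ) := by
  obtain ⟨n, ρ, h1⟩ := Characters.Core.isCharacter_comp A.subtype (Characters.Core.isIrr_isCharacter h)
  have h0 : (Nat.card A : ℂ) ≠ 0 := Nat.cast_ne_zero.2 Nat.card_pos.ne'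
  have := invertibleOfNonzero h0
  have h2 := ρ.card_inv_mul_sum_char_eq_finrank
  rw [h1, inv_mul_eq_iff_eq_mul₀ h0] at h2
  exact ⟨Module.finrank ℂ ρ.invariants, by rw [Nat.cast_mul]; exact h2⟩

/-- the multiplicities -/
theorem exists_mults {χ : ℕ → K → ℂ} (hE : Enum K R.n R.d χ) (A : Subgroup K) [Fintype A] :
    ∃ m : ℕ → ℕ, (∀ j < R.n, ∑ s : A, χ j s = (Nat.card A * m j : ℕ)) ∧
      ∑ j ∈ range R.n, R.d j * m j = A.index ∧ ∃ j < R.n, R.d j = 1 ∧ m j = 1 := by
  choose! m hm using fun j (hj : j < R.n) => exists_mult (hE.irr j hj) A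
  exact ⟨m, hm, (boxCh K).2 A R.n χ R.d m hE.irr hE.inj hE.all hE.deg hm⟩

omit [Finite K] in
theorem val_eq {χ : ℕ → K → ℂ} (hR : Rel T R χ) (A : Subgroup K) [Fintype A] (i : ℕ) :
    ((val T A (ntd R.rel ([], []) i).2 : ℤ) : ℂ) =
      ((ntd R.rel ([], []) i).1.map fun p => (p.2 : ℂ) * ∑ s : A, χ p.1 s).sum := by
  have h1 : ∀ L : List (ℕ × ℤ), (L.map fun p => (p.2 : ℂ) * ∑ s : A, χ p.1 s).sum =
      ∑ s : A, (L.map fun p => (p.2 : ℂ) * χ p.1 s).sum := fun L => by
    induction L with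
    | nil => simp
    | cons p L ih =>
      simp only [List.map_cons, List.sum_cons]
      rw [ih, Finset.sum_add_distrib, Finset.mul_sum]
  rcases ntd_mem R.rel ([], []) i with h | h
  · rw [h]
    simp [val, nth_nil]
  · rw [h1, Finset.sum_congr rfl fun (s : A) _ => hR _ h (s : K),
      sum_num A fun t => (((ntd R.rel ([], []) i).2.getD t 0 : ℤ) : ℂ), val]
    push_cast
    exact Finset.sum_congr rfl fun t _ => by rw [nsmul_eq_mul, nth_eq]

omit [Finite K] in
theorem val_mult {χ : ℕ → K → ℂ} (hR : Rel T R χ) (hi : okIdx R = true) {A : Subgroup K} [Fintype A] {m : ℕ → ℕ}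
    (hm : ∀ j < R.n, ∑ s : A, χ j s = (Nat.card A * m j : ℕ)) (i : ℕ) :
    (∀ p ∈ (ntd R.rel ([], []) i).1, p.1 < R.n) ∧ val T A (ntd R.rel ([], []) i).2 =
      Nat.card A * ((ntd R.rel ([], []) i).1.map fun p => p.2 * (m p.1 : ℤ)).sum := by
  have h1 : ∀ p ∈ (ntd R.rel ([], []) i).1, p.1 < R.n := by
    rcases ntd_mem R.rel ([], []) i with h | h
    · rw [h]
      exact fun _ h => absurd h List.not_mem_nil
    · rw [okIdx, frc_eq] at hi
      exact fun p hp => Nat.blt_eq ▸ allL_spec (allL_spec hi _ h) p hp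
  refine ⟨h1, Int.cast_injective (α := ℂ) ?_⟩
  rw [val_eq hR]
  generalize (ntd R.rel ([], []) i).1 = L at h1
  induction L with
  | nil => simp
  | cons p L ih =>
    rw [List.map_cons, List.sum_cons, ih fun q hq => h1 q (List.mem_cons_of_mem _ hq), hm _ (h1 p List.mem_cons_self),
      List.map_cons, List.sum_cons]
    push_cast
    ring

omit [Finite K] in
theorem nth_frob (d : ℕ) (W : List Ze) : ∀ i k, (∀ z ∈ W, ZOk D z) → W.map Prod.fst = List.range' i k → ∀ u < k,
    nth (mapL (fun z : Ze => cond (dv z.2.1 d) (Int.ofNat 1) (Int.ofNat 0)) W) u =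
      if D.ord (u + i) ∣ d then 1 else 0 := by
  induction W with
  | nil =>
    intro i k _ h1 u hu
    obtain rfl : k = 0 := by simpa using congrArg List.length h1.symm
    cases hu
  | cons z W ih =>
    intro i k hZ h1 u hu
    cases k with
    | zero => cases hu
    | succ k =>
    obtain ⟨h3, h4⟩ := List.cons.inj h1
    cases u with
    | zero =>
      show cond (dv z.2.1 d) (Int.ofNat 1) (Int.ofNat 0) = _
      rw [zero_add, ← h3, (hZ z List.mem_cons_self).2.1]
      cases h5 : dv z.2.1 d with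
      | true => rw [if_pos (dv_iff.1 h5)]; rfl
      | false => rw [if_neg (dv_false h5)]; rfl
    | succ u =>
      rw [show u + 1 + i = u + (i + 1) by omega]
      exact ih (i + 1) k (fun z' hz' => hZ z' (List.mem_cons_of_mem _ hz')) h4 u (by omega)

theorem val_frob (hZ : ZS D Z) (A : Subgroup K) (d : ℕ) : val T A (frob Z d) = Nat.card {x : A // x ^ d = 1} := by
  classical
  have := Fintype.ofFinite A
  have h1 : ∀ t < D.n, nth (frob Z d) t = if D.ord t ∣ d then 1 else 0 := fun t ht => by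
    cases t with
    | zero => rw [hZ.zero, if_pos (one_dvd d)]; rfl
    | succ t => exact nth_frob d Z 1 _ hZ.ok hZ.seq t (by omega)
  rw [val, Finset.sum_congr rfl fun t ht => by rw [h1 t (mem_range.1 ht), ← nsmul_eq_mul],
    ← sum_num (T := T) A fun t => if D.ord t ∣ d then (1 : ℤ) else 0, Nat.card_eq_fintype_card, Fintype.card_subtype,
    Finset.card_filter]
  push_cast
  exact Finset.sum_congr rfl fun x _ => by
    simp only [← T.ord, Subgroup.orderOf_coe, orderOf_dvd_iff_pow_eq_one]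

theorem hy_of' (hm : T.Mass) (hu : Unif T) (hT : TAB.Use.Tab T R) (hi : okIdx R = true) (hZ : ZS D Z) (A : Subgroup K) :
    Hy T A (rows R.deg R) Z := by
  classical
  obtain ⟨χ, hE, hR⟩ := hT
  have := Fintype.ofFinite A
  obtain ⟨m, h1, h2, j, h3, h4, h5⟩ := exists_mults hE A
  have key : ∀ i, (∃ d, i = 1000 + d) ∨ Nat.blt i 1000 = true := fun i => by
    rw [Nat.blt_eq]
    exact (le_or_gt 1000 i).imp Nat.exists_eq_add_of_le id
  have good : ∀ i, gd R.deg (ntd R.rel ([], []) i).1 ≠ 0 → ∃ s : ℕ, val T A (ntd R.rel ([], []) i).2 =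
      (Nat.card A * s : ℕ) ∧ s * gd R.deg (ntd R.rel ([], []) i).1 ≤ A.index - 1 := fun i h => by
    have h6 := gd_spec h
    obtain ⟨h7, h8⟩ := val_mult hR hi h1 i
    generalize gd R.deg (ntd R.rel ([], []) i).1 = g at h6 ⊢
    generalize (ntd R.rel ([], []) i).1 = L at h6 h7 h8
    simp only [gdT, Bool.and_eq_true, Nat.blt_eq, decide_eq_true_eq] at h6
    obtain ⟨⟨h9, h10⟩, h11⟩ := h6
    have h12 : ∀ p ∈ L, R.d p.1 = g ∧ p.2 = 1 := fun p hp => by
      have h12 := allL_spec h10 p hp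
      rw [Bool.and_eq_true, Nat.beq_eq, Spor.ntd_eq, decide_eq_true_eq] at h12
      exact h12
    refine ⟨∑ x ∈ (L.map Prod.fst).toFinset, m x, ?_, ?_⟩
    · rw [h8, List.sum_toFinset _ h11, Nat.cast_mul, Nat.cast_list_sum, List.map_map, List.map_map]
      exact congrArg _ (congrArg _ (List.map_congr_left fun p hp => by rw [(h12 p hp).2, one_mul]; rfl))
    · have h13 : j ∉ (L.map Prod.fst).toFinset := fun h13 => by
        obtain ⟨p, hp, rfl⟩ := List.mem_map.1 (List.mem_toFinset.1 h13)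
        exact h9.ne' ((h12 p hp).1.symm.trans h4)
      have h14 := Finset.sum_le_sum_of_subset (f := fun x => R.d x * m x)
        (show insert j (L.map Prod.fst).toFinset ⊆ range R.n from Finset.insert_subset (mem_range.2 h3) fun x hx => by
          obtain ⟨p, hp, rfl⟩ := List.mem_map.1 (List.mem_toFinset.1 hx)
          exact mem_range.2 (h7 p hp))
      rw [Finset.sum_insert h13, h2, h4, h5, Finset.sum_congr rfl (g := fun x => m x * g) fun x hx => by
        obtain ⟨p, hp, rfl⟩ := List.mem_map.1 (List.mem_toFinset.1 hx)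
        rw [(h12 p hp).1, mul_comm], ← Finset.sum_mul] at h14
      omega
  refine ⟨hm, hu, hZ, fun i h => ?_, fun i h => ?_, fun i h => ?_⟩
  · rcases key i with ⟨d, rfl⟩ | h6
    · rw [row_add, val_frob hZ]
      exact Int.natCast_nonneg _
    · rw [row_lt _ h6] at h ⊢
      obtain ⟨s, h7, -⟩ := good i h
      exact h7 ▸ Int.natCast_nonneg _
  · rcases key i with ⟨d, rfl⟩ | h6
    · rw [row_add] at h
      exact absurd h (lt_irrefl _)
    · rw [row_lt _ h6] at h ⊢
      obtain ⟨s, h7, h8⟩ := good i (Nat.ne_zero_of_lt h)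
      exact h7 ▸ Nat.cast_le.2 (Nat.mul_le_mul_left _ ((Nat.le_div_iff_mul_le (Nat.zero_lt_of_lt h)).2 h8))
  · rcases key i with ⟨d, rfl⟩ | h6
    · have h7 : rmod (Nat.card A) (1000 + d) = d := by
        have h : Nat.blt (1000 + d) 1000 = false := by
          rw [← Bool.not_eq_true, Nat.blt_eq]
          omega
        rw [rmod, h, cond_false]
        exact Nat.add_sub_cancel_left 1000 d
      rw [h7] at h ⊢
      rw [row_add, val_frob hZ]
      exact Int.natCast_dvd_natCast.2 (H418.Frob.frobenius_dvd d h)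
    · rw [row_lt _ h6, rmod, h6, cond_true]
      exact ⟨_, (val_mult hR hi h1 i).2⟩

/-- no subgroup has the order and the bounds -/
def Dead (T : TD K D) (R : Rows) (Z : List Ze) (h : Hd) : Prop :=
  ∀ A : Subgroup K, Nat.card A = h.1 → BL T A (rows R.deg R) Z h.2.1 → BH T A (rows R.deg R) Z h.2.2 → False

theorem div_card (hm : T.Mass) (A : Subgroup K) : D.N / Nat.card A = A.index := by
  rw [← hm.1]
  exact Nat.div_eq_of_eq_mul_right Nat.card_pos A.card_mul_index.symm

theorem dead_of (hm : T.Mass) (hu : Unif T) (hT : TAB.Use.Tab T R) (hi : okIdx R = true) (hZ : ZS D Z)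
    {P : List (ℕ × ℕ × ℕ)} (hP : okP D P = true) {CL : List (Hd × Tr)} (hL : okL D R P Z CL = true) :
    ∀ h ∈ CL.map Prod.fst, Dead T R Z h := by
  intro h hh A h1 h2 h3
  obtain ⟨x, hx, rfl⟩ := List.mem_map.1 hh
  rw [okL, frc_eq, frc_eq, frcL_eq, frcRo_eq] at hL
  have h4 := allL_spec hL x hx
  rw [okC, frc_eq, ← h1] at h4
  change iniL _ (D.N / Nat.card A) _ (fun F => run _ (D.N / Nat.card A) _ _ _ _ _ _ _) = true at h4
  rw [div_card hm] at h4
  obtain ⟨F, h5, h6⟩ := iniL_spec hm hu hP h4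
  exact (hy_of' hm hu hT hi hZ A).run _ h5 h2 h3 h6

theorem zero_or (hT : TAB.Use.Tab T R) {SG : List ℕ} (h : okSG R SG = true) {X Y : Subgroup K} (hP : Ex78.Pd X Y) {i : ℕ}
    (hi : i ∈ SG) : val T X (row (rows R.deg R) Z i).2 = 0 ∨ val T Y (row (rows R.deg R) Z i).2 = 0 := by
  obtain ⟨χ, hE, hR⟩ := hT
  have := Fintype.ofFinite X
  have := Fintype.ofFinite Y
  have h1 := allL_spec h i hi
  rw [Bool.and_eq_true] at h1
  have h2 := val_eq hR X i
  have h3 := val_eq hR Y i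
  rw [row_lt _ h1.1]
  have h4 := h1.2
  generalize (ntd R.rel ([], []) i).1 = L at h2 h3 h4
  cases L with
  | nil => cases h4
  | cons p L =>
  have h5 : (allL (fun _ => false) L && decide (p.2 = 1) && Nat.blt p.1 R.n && !Nat.beq (ntd R.deg 0 p.1) 1) = true := h4
  simp only [Bool.and_eq_true, decide_eq_true_eq, Nat.blt_eq] at h5
  obtain rfl : L = [] := List.eq_nil_iff_forall_not_mem.2 fun q hq => Bool.false_ne_true (allL_spec h5.1.1.1 q hq)
  have h6 : χ p.1 1 ≠ 1 := by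
    rw [hE.deg _ h5.1.2, Ne, Nat.cast_eq_one]
    exact fun h6 => ne_of_not_beq h5.2 ((Spor.ntd_eq _ _).trans h6)
  simp only [List.map_cons, List.map_nil, List.sum_cons, List.sum_nil, h5.1.1.2, Int.cast_one, one_mul, add_zero] at h2 h3
  exact ((boxCh K).1 X Y _ hP (hE.irr _ h5.1.2) h6).imp (fun h => Int.cast_eq_zero.1 (h2.trans h))
    fun h => Int.cast_eq_zero.1 (h3.trans h)

theorem md_lt (hT : TAB.Use.Tab T R) {md : ℕ} (h : okMd R md = true) {A : Subgroup K} (hA : A ≠ ⊤) : md < A.index := by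
  obtain ⟨χ, hE, -⟩ := hT
  have := Fintype.ofFinite A
  obtain ⟨m, -, h2, j, h3, h4, h5⟩ := exists_mults hE A
  rw [okMd, Bool.and_eq_true, Nat.blt_eq] at h
  obtain ⟨dg, rel⟩ := R
  cases dg with
  | nil => cases h.2
  | cons d L =>
  have h6 : ∀ i < L.length, md ≤ Rows.d ⟨d :: L, rel⟩ (i + 1) := fun i hi => by
    have h7 := allL_spec (show allL (Nat.ble md) L = true from h.2) _ (List.getElem_mem hi)
    show md ≤ (d :: L).getD (i + 1) 0
    rw [List.getD_cons_succ, List.getD_eq_getElem _ _ hi]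
    exact Nat.le_of_ble_eq_true h7
  obtain rfl : j = 0 := by
    cases j with
    | zero => rfl
    | succ j => exact absurd (h4 ▸ h6 j (Nat.lt_of_succ_lt_succ h3)) (not_le.2 h.1)
  rw [show Rows.n ⟨d :: L, rel⟩ = L.length + 1 from rfl, Finset.sum_range_succ', h4, h5] at h2
  obtain ⟨i, hi, h7⟩ := Finset.exists_ne_zero_of_sum_ne_zero (s := range L.length)
    (f := fun i => Rows.d ⟨d :: L, rel⟩ (i + 1) * m (i + 1)) fun h7 => hA (Subgroup.index_eq_one.1 (by rw [← h2, h7]))
  have h8 := Finset.single_le_sum (f := fun i => Rows.d ⟨d :: L, rel⟩ (i + 1) * m (i + 1)) (fun _ _ => Nat.zero_le _) hi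
  have h9 := (h6 i (mem_range.1 hi)).trans
    (Nat.le_mul_of_pos_right _ (Nat.pos_of_ne_zero (right_ne_zero_of_mul h7)))
  omega

end Cfsg.Agent.SM.Sp
end

private theorem dce_ae9e4c29d06e : _root_.True := by
  try have : _root_.True := by simp only [_root_.Cfsg.Agent.SM.Sp.mkF.eq_1]
  try have : _root_.True := by simp only [_root_.Cfsg.Agent.SM.Sp.okC.eq_1]
  try have : _root_.True := by simp only [_root_.Cfsg.Agent.SM.Sp.okL.eq_1]
  try have : _root_.True := by simp only [_root_.Cfsg.Agent.SM.Sp.ini.eq_1]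
  try have : _root_.True := by simp only [_root_.Cfsg.Agent.SM.Sp.row.eq_1]
  try have : _root_.True := by simp only [_root_.Cfsg.Agent.SM.Sp.gdT.eq_1]
  try have : _root_.True := by simp only [_root_.Cfsg.Agent.SM.Sp.okMd.eq_1]
  try have : _root_.True := by simp only [_root_.Cfsg.Agent.SM.Sp.rmod.eq_1]
  try have : _root_.True := by simp only [_root_.Cfsg.Agent.SM.Sp.val.eq_1]
  exact _root_.True.intro
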